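import Groth.Agent.Lib.CurveNF.Compact
import Groth.Agent.Lib.Curve17.Basic
import Groth.Agent.Lib.RegSmooth17.Scheme
import Groth.Agent.Lib.AbRigid.FlatFibre

/-!
# Smooth proper curves mapping onto an affine curve
-/

open CategoryTheory Limits AlgebraicGeometry

set_option linter.style.haveILetI false

namespace Groth.Agent.RatMapAV

universe u

/-- An affine integral curve over a perfect field is dominated by a smooth proper curve. -/
theorem exists_smooth_completion (k : Type u) [Field k] [PerfectField k] (B : Type u) [CommRing B]
    [IsDomain B] [Algebra k B] [Algebra.FiniteType k B] (hB : ringKrullDim B = 1) :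
    ∃ (C : Over (Spec (CommRingCat.of k))) (_ : IsProper C.hom) (_ : Smooth C.hom) (_ : IsIntegral C.left)
      (U : C.left.Opens) (β : (U : Scheme.{u}) ⟶ Spec (CommRingCat.of B)),
      Surjective β ∧ β ≫ Spec.map (CommRingCat.ofHom (algebraMap k B)) = U.ι ≫ C.hom := by
  obtain ⟨Y, hY, q₀, j, hq, hj, hjq⟩ := CurveNF.exists_proper_compactification k B
  let g : Spec (CommRingCat.of Y.functionField) ⟶ Y :=
    Spec.map (CommRingCat.ofHom (RingHom.id Y.functionField)) ≫ Y.fromSpecStalk (genericPoint Y)
  haveI : QuasiCompact g := inferInstance
  haveI : QuasiSeparated g := inferInstance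
  have hg : g = Spec.map (CommRingCat.ofHom (RingHom.id Y.functionField)) ≫
      Y.fromSpecStalk (genericPoint Y) := rfl
  haveI := CurveNF.isFinite_fromNormalization hg q₀ (RingHom.Finite.id _)
  obtain ⟨hI, hN⟩ := CurveNF.isIntegral_and_normal hg
  haveI := CurveNF.surjective_fromNormalization hg
  let C : Over (Spec (CommRingCat.of k)) := Over.mk (g.fromNormalization ≫ q₀)
  haveI : IsProper C.hom := inferInstanceAs (IsProper (g.fromNormalization ≫ q₀))
  have hdimY : topologicalKrullDim Y = 1 := by
    have h1 : topologicalKrullDim (Spec (CommRingCat.of B)) = 1 :=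
      (PrimeSpectrum.topologicalKrullDim_eq_ringKrullDim B).trans hB
    rw [VarDim.dim_eq_sdim_genericPoint q₀]
    rw [VarDim.dim_eq_sdim_genericPoint (j ≫ q₀), VarDim.sdim_comp_of_surjective q₀ j] at h1
    rw [genericPoint_eq_of_isOpenImmersion j] at h1
    exact h1
  have hdim : topologicalKrullDim g.normalization = 1 := by
    haveI : IsFinite (Over.homMk g.fromNormalization rfl :
        Over.mk (g.fromNormalization ≫ q₀) ⟶ Over.mk q₀).left :=
      inferInstanceAs (IsFinite g.fromNormalization)
    haveI : Surjective (Over.homMk g.fromNormalization rfl :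
        Over.mk (g.fromNormalization ≫ q₀) ⟶ Over.mk q₀).left :=
      inferInstanceAs (Surjective g.fromNormalization)
    haveI : LocallyOfFiniteType (Over.mk q₀).hom := inferInstanceAs (LocallyOfFiniteType q₀)
    haveI : IrreducibleSpace (Over.mk (g.fromNormalization ≫ q₀)).left := inferInstanceAs (IrreducibleSpace g.normalization)
    haveI : IrreducibleSpace (Over.mk q₀).left := inferInstanceAs (IrreducibleSpace Y)
    exact (AbRigid.dim_eq_of_isFinite_of_surjective (Over.mk (g.fromNormalization ≫ q₀)) (Over.mk q₀)
      (Over.homMk g.fromNormalization rfl)).trans hdimY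
  haveI : IsLocallyNoetherian g.normalization := LocallyOfFiniteType.isLocallyNoetherian C.hom
  haveI : LocallyOfFinitePresentation C.hom := inferInstance
  have hsm : Smooth C.hom := RegSmooth17.smooth_of_regular_of_perfectField C.hom fun x => by
    show IsRegularLocalRing (g.normalization.presheaf.stalk x)
    by_cases hx : IsClosed ({x} : Set g.normalization)
    · haveI := (hN x).2
      haveI := Curve17.isDiscreteValuationRing_stalk hdim hx
      infer_instance
    · have hgen : x = genericPoint g.normalization := by
        by_contra h
        exact hx (Curve17.isClosed_singleton hdim.le h)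
      subst hgen
      exact inferInstanceAs (IsRegularLocalRing g.normalization.functionField)
  let U : C.left.Opens := g.fromNormalization ⁻¹ᵁ j.opensRange
  refine ⟨C, inferInstance, hsm, hI, U, (g.fromNormalization ∣_ j.opensRange) ≫ j.isoOpensRange.inv, ?_, ?_⟩
  · haveI : Surjective (g.fromNormalization ∣_ j.opensRange) :=
      IsZariskiLocalAtTarget.restrict (P := @Surjective) inferInstance _
    infer_instance
  · rw [Category.assoc, ← hjq, Scheme.Hom.isoOpensRange_inv_comp_assoc, morphismRestrict_ι_assoc]
    rfl

end Groth.Agent.RatMapAV
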