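import Groth.Agent.Lib.RatMapAV.CurveAlg
import Groth.Agent.Lib.RatMapAV.Completion
import Groth.Agent.Lib.RigidRel.AbSch
import Groth.Agent.Lib.WeilExt.Apply
import Groth.Agent.Lib.AbRigid.Epi
import Groth.Agent.Lib.SGA7Torsion.Infinitesimal
import Mathlib.AlgebraicGeometry.AlgClosed.Basic

/-!
# Morphisms from a product of smooth varieties into an abelian variety over an algebraically closed field
-/

open CategoryTheory Limits AlgebraicGeometry MonoidalCategory CartesianMonoidalCategory MonObj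

set_option linter.style.haveILetI false
set_option backward.isDefEq.respectTransparency false

namespace Groth.Agent.RatMapAV

universe u

variable {K : Type u} [Field K] [IsAlgClosed K]

open SGA7Torsion

theorem geometricallyConnected_of_connected (X : Over (Spec (CommRingCat.of K))) [LocallyOfFiniteType X.hom]
    [ConnectedSpace X.left] : GeometricallyConnected X.hom :=
  ⟨fun L _ y Z fst snd hsq => by
    haveI := AbRigid.connectedSpace_pullback_of_isAlgClosed (K := K) X.hom y
    exact (hsq.isoPullback.hom.homeomorph.symm).surjective.connectedSpace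
      (hsq.isoPullback.hom.homeomorph.symm).continuous⟩

/-- The curve step: along a curve the values of a morphism normalised on both axes are constant. -/
theorem eq_along_curve (W A : Over (Spec (CommRingCat.of K))) [Smooth W.hom] [IsSeparated W.hom]
    [GeometricallyIntegral W.hom] [GrpObj A] [IsProper A.hom]
    {V : Over (Spec (CommRingCat.of K))} (h : V ⊗ W ⟶ A)
    (w₀ : 𝟙_ (Over (Spec (CommRingCat.of K))) ⟶ W)
    (hw : lift (𝟙 V) (toUnit V ≫ w₀) ≫ h = 1)
    (C : Over (Spec (CommRingCat.of K))) [IsProper C.hom] [Smooth C.hom] [IsIntegral C.left]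
    (U : C.left.Opens) (γ : Over.mk (U.ι ≫ C.hom) ⟶ V)
    (c c' : 𝟙_ (Over (Spec (CommRingCat.of K))) ⟶ Over.mk (U.ι ≫ C.hom))
    (w : 𝟙_ (Over (Spec (CommRingCat.of K))) ⟶ W) :
    lift (c ≫ γ) w ≫ h = lift (c' ≫ γ) w ≫ h := by
  let Uo : Over (Spec (CommRingCat.of K)) := Over.mk (U.ι ≫ C.hom)
  let iU : Uo ⟶ C := Over.homMk U.ι rfl
  haveI : Nonempty U := ⟨c.left (IsLocalRing.closedPoint K)⟩
  haveI : GeometricallyReduced C.hom := AbRigid.geometricallyReduced_of_smooth C.hom
  haveI : GeometricallyConnected C.hom := geometricallyConnected_of_connected C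
  haveI : GeometricallyConnected W.hom := by
    haveI : IsLocallyNoetherian W.left := LocallyOfFiniteType.isLocallyNoetherian W.hom
    haveI : IsIntegral W.left := GeometricallyIntegral.isIntegral_of_subsingleton W.hom
    exact geometricallyConnected_of_connected W
  haveI : Smooth (C ⊗ W).hom := by
    show Smooth (pullback.fst C.hom W.hom ≫ C.hom)
    infer_instance
  let U' : (C ⊗ W).left.Opens := (fst C W).left ⁻¹ᵁ U
  let T : Over (Spec (CommRingCat.of K)) := Over.mk (U'.ι ≫ (C ⊗ W).hom)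
  let iT : T ⟶ C ⊗ W := Over.homMk U'.ι rfl
  let a : T ⟶ Uo := Over.homMk ((fst C W).left ∣_ U) (by
    show _ ≫ U.ι ≫ C.hom = U'.ι ≫ _
    rw [morphismRestrict_ι_assoc, Over.w (fst C W)])
  have ha : a ≫ iU = iT ≫ fst C W := by
    ext1
    exact morphismRestrict_ι _ _
  let f : T ⟶ A := lift (a ≫ γ) (iT ≫ snd C W) ≫ h
  have hdense : Dense (U' : Set (C ⊗ W).left) := by
    haveI : Nonempty U := ⟨c.left (IsLocalRing.closedPoint K)⟩
    haveI : Flat (fst C W).left := MorphismProperty.pullback_fst C.hom W.hom inferInstance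
    haveI : LocallyOfFinitePresentation (fst C W).left := MorphismProperty.pullback_fst C.hom W.hom inferInstance
    exact (U.isOpen.dense ⟨_, (c.left (IsLocalRing.closedPoint K)).2⟩).preimage (fst C W).left.isOpenMap
  obtain ⟨g₀, ⟨hg₀, hg₀'⟩, -⟩ := WeilExt.exists_extension_of_isProper (C ⊗ W) A U' hdense f.left (Over.w f)
  let g : C ⊗ W ⟶ A := Over.homMk g₀ hg₀
  have key : ∀ {Z : Over (Spec (CommRingCat.of K))} (x : Z ⟶ Uo) (y : Z ⟶ W),
      lift (x ≫ iU) y ≫ g = lift (x ≫ γ) y ≫ h := by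
    intro Z x y
    have hr : Set.range (lift (x ≫ iU) y).left ⊆ Set.range U'.ι := by
      rw [Scheme.Opens.range_ι]
      rintro _ ⟨z, rfl⟩
      show (fst C W).left ((lift (x ≫ iU) y).left z) ∈ U
      rw [← Scheme.Hom.comp_apply, ← Over.comp_left, lift_fst]
      exact (x.left z).2
    let l := IsOpenImmersion.lift U'.ι _ hr
    have hl : l ≫ U'.ι = (lift (x ≫ iU) y).left := IsOpenImmersion.lift_fac _ _ hr
    let l' : Z ⟶ T := Over.homMk l (by
      show l ≫ U'.ι ≫ _ = _
      rw [reassoc_of% hl]; exact Over.w _)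
    have hl' : l' ≫ iT = lift (x ≫ iU) y := (Over.forget _).map_injective hl
    have hiT : iT ≫ g = f := by ext1; exact hg₀'
    have hx : l' ≫ a = x := by
      haveI : Mono iU := by
        haveI : Mono ((Over.forget _).map iU) := inferInstanceAs (Mono U.ι)
        exact (Over.forget _).mono_of_mono_map this
      rw [← cancel_mono iU, Category.assoc, ha, ← Category.assoc, hl', lift_fst]
    rw [← hl', Category.assoc, hiT, ← Category.assoc, comp_lift, reassoc_of% hx, reassoc_of% hl', lift_snd]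
  -- the slice at `w₀` is trivial
  have hslice : lift (𝟙 C) (toUnit C ≫ w₀) ≫ g = 1 := by
    have e := key (𝟙 Uo) (toUnit Uo ≫ w₀)
    rw [Category.id_comp, Category.id_comp] at e
    have e1 : iU ≫ lift (𝟙 C) (toUnit C ≫ w₀) ≫ g = 1 := by
      rw [← Category.assoc, comp_lift, Category.comp_id, ← Category.assoc iU, comp_toUnit, e]
      have : lift γ (toUnit Uo ≫ w₀) = γ ≫ lift (𝟙 V) (toUnit V ≫ w₀) := by
        rw [comp_lift, Category.comp_id, ← Category.assoc γ, comp_toUnit]
      rw [this, Category.assoc, hw, MonObj.comp_one]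
    ext1
    haveI : LocallyOfFiniteType ((lift (𝟙 C) (toUnit C ≫ w₀) ≫ g).left ≫ A.hom) := by
      rw [Over.w]; infer_instance
    refine ext_of_apply_eq A.hom U U.isOpen.isLocallyClosed
      (U.isOpen.dense ⟨_, (c.left (IsLocalRing.closedPoint K)).2⟩) (fun z hz _ => ?_)
      ((Over.w _).trans (Over.w (1 : C ⟶ A)).symm)
    have e2 := congrArg (fun q => q.left ⟨z, hz⟩) (e1.trans (MonObj.comp_one iU).symm)
    exact e2
  have hc' : lift (c' ≫ iU) w₀ ≫ g = η[A] := by
    have : lift (c' ≫ iU) w₀ = (c' ≫ iU) ≫ lift (𝟙 C) (toUnit C ≫ w₀) := by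
      rw [comp_lift, Category.comp_id, ← Category.assoc (c' ≫ iU), toUnit_unique ((c' ≫ iU) ≫ toUnit C) (𝟙 _),
        Category.id_comp]
    rw [this, Category.assoc, hslice, MonObj.comp_one, one_eq_one]
  have hmul := RigidRel.eq_mul_of_axes C W A g (c' ≫ iU) w₀ hc'
  rw [hslice, MonObj.comp_one, _root_.one_mul] at hmul
  rw [← key c w, ← key c' w, hmul]
  simp only [← Category.assoc, lift_snd]

theorem exists_point_of_ne_top {A : Type u} [CommRing A] [Algebra K A] [Algebra.FiniteType K A] (m : Ideal A)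
    [m.IsMaximal] : ∃ v : A →ₐ[K] K, RingHom.ker v = m := by
  letI := Ideal.Quotient.field m
  haveI : Algebra.IsIntegral K (A ⧸ m) := by
    haveI : Module.Finite K (A ⧸ m) := finite_of_finite_type_of_isJacobsonRing K (A ⧸ m)
    infer_instance
  let e : K ≃ₐ[K] A ⧸ m := AlgEquiv.ofBijective (Algebra.ofId K (A ⧸ m))
    (IsAlgClosed.algebraMap_bijective_of_isIntegral (k := K) (K := A ⧸ m))
  refine ⟨e.symm.toAlgHom.comp (Ideal.Quotient.mkₐ K m), ?_⟩
  ext x
  simp [Ideal.Quotient.eq_zero_iff_mem]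

/-- On an affine first factor the values of a normalised morphism do not depend on the first variable. -/
theorem eq_of_affine (R : Type u) [CommRing R] [IsDomain R] [Algebra K R] [Algebra.FiniteType K R]
    (W A : Over (Spec (CommRingCat.of K))) [Smooth W.hom] [IsSeparated W.hom]
    [GeometricallyIntegral W.hom] [GrpObj A] [IsProper A.hom]
    (h : specOver K R ⊗ W ⟶ A) (v₀ : R →ₐ[K] K) (w₀ : 𝟙_ (Over (Spec (CommRingCat.of K))) ⟶ W)
    (hw : lift (𝟙 (specOver K R)) (toUnit _ ≫ w₀) ≫ h = 1)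
    (o : 𝟙_ (Over (Spec (CommRingCat.of K))) ⟶ specOver K K)
    (hv : ∀ w : 𝟙_ (Over (Spec (CommRingCat.of K))) ⟶ W, lift (o ≫ specHom v₀) w ≫ h = 1)
    (v : 𝟙_ (Over (Spec (CommRingCat.of K))) ⟶ specOver K R) (w : 𝟙_ (Over (Spec (CommRingCat.of K))) ⟶ W) :
    lift v w ≫ h = 1 := by
  let pt : Spec (CommRingCat.of K) := IsLocalRing.closedPoint K
  let r : specOver K R ⟶ A := lift (𝟙 _) (toUnit _ ≫ w) ≫ h
  have hr : ∀ x : 𝟙_ (Over (Spec (CommRingCat.of K))) ⟶ specOver K R, x ≫ r = lift x w ≫ h := fun x => by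
    rw [← Category.assoc x, comp_lift, Category.comp_id, ← Category.assoc, toUnit_unique (x ≫ toUnit _) (𝟙 _),
      Category.id_comp]
  haveI : (RingHom.ker v₀).IsMaximal :=
    RingHom.ker_isMaximal_of_surjective _ fun c => ⟨algebraMap K R c, v₀.commutes c⟩
  obtain ⟨F, hF, hF₀, hFmax, hconn⟩ := exists_finite_curve_connected K R (RingHom.ker v₀)
  haveI : LocallyOfFiniteType (specOver K R).hom := by
    show LocallyOfFiniteType (Spec.map (CommRingCat.ofHom (algebraMap K R)))
    rw [HasRingHomProperty.Spec_iff (P := @LocallyOfFiniteType)]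
    exact RingHom.finiteType_algebraMap.2 ‹_›
  haveI : JacobsonSpace ↥(specOver K R).left := LocallyOfFiniteType.jacobsonSpace (specOver K R).hom
  -- values of `r` at closed points are among finitely many
  have hval : ∀ p : (specOver K R).left, IsClosed ({p} : Set (specOver K R).left) →
      ∃ m ∈ F, ∃ hm : m.IsPrime, r.left p = r.left (⟨m, hm⟩ : PrimeSpectrum R) := by
    intro p hp
    have hpmax : (p : PrimeSpectrum R).asIdeal.IsMaximal :=
      (PrimeSpectrum.isClosed_singleton_iff_isMaximal _).1 hp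
    rcases hconn _ hpmax with h' | ⟨P, hP, hPp, ⟨m', hm', hPm'⟩, hdim⟩
    · exact ⟨_, h', hpmax.isPrime, rfl⟩
    haveI := hP
    haveI := (hFmax m' hm')
    refine ⟨m', hm', inferInstance, ?_⟩
    obtain ⟨C, hC₁, hC₂, hC₃, U, β, hβ, hβw⟩ := exists_smooth_completion K (R ⧸ P) hdim
    let γ : Over.mk (U.ι ≫ C.hom) ⟶ specOver K R :=
      (Over.homMk β hβw : Over.mk (U.ι ≫ C.hom) ⟶ specOver K (R ⧸ P)) ≫ specHom (Ideal.Quotient.mkₐ K P)
    haveI : JacobsonSpace C.left := LocallyOfFiniteType.jacobsonSpace C.hom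
    have lifts : ∀ (q : (specOver K R).left), IsClosed ({q} : Set (specOver K R).left) → P ≤ (q : PrimeSpectrum R).asIdeal →
        ∃ c : 𝟙_ (Over (Spec (CommRingCat.of K))) ⟶ Over.mk (U.ι ≫ C.hom), (c ≫ γ).left pt = q := by
      intro q hq hPq
      obtain ⟨q', hq'⟩ : q ∈ Set.range (specHom (Ideal.Quotient.mkₐ K P)).left := by
        refine (show (q : PrimeSpectrum R) ∈ Set.range (PrimeSpectrum.comap (Ideal.Quotient.mk P)) from ?_)
        rw [range_comap_of_surjective _ _ Ideal.Quotient.mk_surjective, Ideal.mk_ker]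
        exact hPq
      obtain ⟨z, hz⟩ := hβ.surj q'
      have hcl : IsClosed (γ.left ⁻¹' {q}) := hq.preimage γ.left.continuous
      haveI : LocallyOfFiniteType (U.ι ≫ C.hom) := inferInstance
      haveI : JacobsonSpace (U : Scheme.{u}) := LocallyOfFiniteType.jacobsonSpace (U.ι ≫ C.hom)
      obtain ⟨z', hz', hz'c⟩ := nonempty_inter_closedPoints
        (Z := (γ.left ⁻¹' {q} : Set (U : Scheme.{u}))) ⟨z, by
          show (specHom (Ideal.Quotient.mkₐ K P)).left (β z) = q
          rw [hz, hq']⟩ hcl.isLocallyClosed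
      refine ⟨Over.homMk (pointOfClosedPoint (U.ι ≫ C.hom) z' hz'c) (by simp), ?_⟩
      show γ.left ((pointOfClosedPoint (U.ι ≫ C.hom) z' hz'c) pt) = q
      rw [pointOfClosedPoint_apply]
      exact hz'
    obtain ⟨c, hc⟩ := lifts p hp hPp
    obtain ⟨c', hc'⟩ := lifts (⟨m', inferInstance⟩ : PrimeSpectrum R)
      ((PrimeSpectrum.isClosed_singleton_iff_isMaximal _).2 inferInstance) hPm'
    have e := eq_along_curve W A h w₀ hw C U γ c c' w
    rw [← hr, ← hr] at e
    have e' := congrArg (fun q => q.left pt) e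
    simp only [Over.comp_left, Scheme.Hom.comp_apply] at e' hc hc'
    rw [hc, hc'] at e'
    exact e'
  haveI : IrreducibleSpace ↥(specOver K R).left := inferInstanceAs (IrreducibleSpace (PrimeSpectrum R))
  haveI : JacobsonSpace A.left := LocallyOfFiniteType.jacobsonSpace A.hom
  haveI : LocallyOfFiniteType (r.left ≫ A.hom) := by rw [Over.w]; infer_instance
  haveI : LocallyOfFiniteType r.left := locallyOfFiniteType_of_comp r.left A.hom
  -- hence `r` is constant on closed points
  let S : Set A.left := (fun m : {m : Ideal R // m ∈ F} => r.left (⟨m.1, (hFmax m.1 m.2).isPrime⟩ : PrimeSpectrum R)) '' Set.univ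
  have hSfin : S.Finite := by
    haveI := hF.to_subtype
    exact Set.finite_univ.image _
  have hScl : ∀ a ∈ S, IsClosed ({a} : Set A.left) := by
    rintro _ ⟨m, -, rfl⟩
    exact r.left.closePoints_subset_preimage_closedPoints
      (show (⟨m.1, (hFmax m.1 m.2).isPrime⟩ : PrimeSpectrum R) ∈ closedPoints _ from
        (PrimeSpectrum.isClosed_singleton_iff_isMaximal _).2 (hFmax m.1 m.2))
  have hcover : (Set.univ : Set (specOver K R).left) ⊆ ⋃ a ∈ S, r.left ⁻¹' {a} := by
    have hclosed : IsClosed (⋃ a ∈ S, r.left ⁻¹' {a}) :=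
      hSfin.isClosed_biUnion fun a ha => (hScl a ha).preimage r.left.continuous
    rw [← closure_closedPoints]
    refine closure_minimal (fun p hp => ?_) hclosed
    obtain ⟨m, hm, hmp, e⟩ := hval p hp
    exact Set.mem_biUnion (x := r.left p) ⟨⟨m, hm⟩, trivial, e.symm⟩ rfl
  have hconst : ∀ p q : (specOver K R).left, r.left p = r.left q := by
    have hirr := IrreducibleSpace.isIrreducible_univ (specOver K R).left
    rw [isIrreducible_iff_sUnion_isClosed] at hirr
    obtain ⟨z, hz, hsub⟩ := hirr ((hSfin.image fun a => r.left ⁻¹' {a}).toFinset)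
      (fun z hz => by
        obtain ⟨a, ha, rfl⟩ := (Set.Finite.mem_toFinset _).1 hz
        exact (hScl a ha).preimage r.left.continuous)
      (by simpa [Set.sUnion_image] using hcover)
    obtain ⟨a, ha, rfl⟩ := (Set.Finite.mem_toFinset _).1 hz
    intro p q
    exact (hsub (Set.mem_univ p)).trans (hsub (Set.mem_univ q)).symm
  rw [← hr]
  ext1
  refine ext_of_apply_closedPoint_eq A.hom (Over.w _) (Over.w _) ?_
  rw [Over.comp_left, Scheme.Hom.comp_apply, hconst _ ((o ≫ specHom v₀).left pt)]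
  have e := congrArg (fun q => q.left pt) ((hr _).trans (hv w))
  simpa using e

/-- Over an algebraically closed field a morphism from a product of varieties to an abelian variety
which is trivial on both axes is trivial. -/
theorem eq_one_of_axes (V W A : Over (Spec (CommRingCat.of K))) [LocallyOfFiniteType V.hom]
    [GeometricallyIntegral V.hom] [Smooth W.hom] [IsSeparated W.hom] [GeometricallyIntegral W.hom]
    [GrpObj A] [IsProper A.hom] (h : V ⊗ W ⟶ A) (v₀ : 𝟙_ (Over (Spec (CommRingCat.of K))) ⟶ V)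
    (w₀ : 𝟙_ (Over (Spec (CommRingCat.of K))) ⟶ W)
    (hv : lift (toUnit W ≫ v₀) (𝟙 W) ≫ h = 1) (hw : lift (𝟙 V) (toUnit V ≫ w₀) ≫ h = 1) : h = 1 := by
  let pt : Spec (CommRingCat.of K) := IsLocalRing.closedPoint K
  haveI : IsLocallyNoetherian V.left := LocallyOfFiniteType.isLocallyNoetherian V.hom
  haveI : IsIntegral V.left := GeometricallyIntegral.isIntegral_of_subsingleton V.hom
  obtain ⟨U, hU, hvU, -⟩ := exists_isAffineOpen_mem_and_subset (X := V.left) (U := ⊤)
    (x := v₀.left pt) trivial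
  let α : K →+* Γ(V.left, U) := (Spec.preimage (hU.fromSpec ≫ V.hom)).hom
  algebraize [α]
  let R := Γ(V.left, U)
  have hα : Spec.map (CommRingCat.ofHom (algebraMap K R)) = hU.fromSpec ≫ V.hom := Spec.map_preimage _
  let j : specOver K R ⟶ V := Over.homMk hU.fromSpec hα.symm
  haveI : IsOpenImmersion j.left := inferInstanceAs (IsOpenImmersion hU.fromSpec)
  have hrange : Set.range j.left = (U : Set V.left) := hU.range_fromSpec
  haveI : Nonempty U := ⟨⟨_, hvU⟩⟩
  haveI : IsDomain R := IsIntegral.component_integral U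
  haveI : Algebra.FiniteType K R := by
    have hl : LocallyOfFiniteType (Spec.map (CommRingCat.ofHom (algebraMap K R))) := by rw [hα]; infer_instance
    exact RingHom.finiteType_algebraMap.1 ((HasRingHomProperty.Spec_iff (P := @LocallyOfFiniteType)).1 hl)
  have hstr : Spec.map (CommRingCat.ofHom (algebraMap K K)) = 𝟙 _ := by
    simp only [Algebra.algebraMap_self, CommRingCat.ofHom_id, Spec.map_id]
  let o : 𝟙_ (Over (Spec (CommRingCat.of K))) ⟶ specOver K K := Over.homMk (𝟙 _) (by
    simp only [Over.mk_hom, hstr]; rfl)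
  let o' : specOver K K ⟶ 𝟙_ (Over (Spec (CommRingCat.of K))) := Over.homMk (𝟙 _) (by
    simp only [Over.mk_hom, hstr]; rfl)
  have hoo : o ≫ o' = 𝟙 _ := toUnit_unique _ _
  have pts : ∀ x : 𝟙_ (Over (Spec (CommRingCat.of K))) ⟶ V, x.left pt ∈ U →
      ∃ φ : R →ₐ[K] K, x = o ≫ specHom φ ≫ j := by
    intro x hx
    obtain ⟨φ, hφ⟩ := exists_chartPt j (o' ≫ x) (by
      rw [hrange]
      rintro _ ⟨z, rfl⟩
      rw [Subsingleton.elim (α := Spec (CommRingCat.of K)) z pt]
      exact hx)
    refine ⟨φ, ?_⟩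
    rw [← Category.id_comp x, ← hoo, Category.assoc, hφ]
    rfl
  obtain ⟨φ₀, hφ₀⟩ := pts v₀ hvU
  let h' : specOver K R ⊗ W ⟶ A := j ▷ W ≫ h
  have hwh : lift (𝟙 (specOver K R)) (toUnit _ ≫ w₀) ≫ h' = 1 := by
    rw [← Category.assoc, lift_whiskerRight, Category.id_comp]
    have : lift j (toUnit (specOver K R) ≫ w₀) = j ≫ lift (𝟙 V) (toUnit V ≫ w₀) := by
      rw [comp_lift, Category.comp_id, ← Category.assoc j, comp_toUnit]
    rw [this, Category.assoc, hw, MonObj.comp_one]
  have hvh : ∀ w : 𝟙_ (Over (Spec (CommRingCat.of K))) ⟶ W, lift (o ≫ specHom φ₀) w ≫ h' = 1 := fun w => by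
    rw [← Category.assoc, lift_whiskerRight, Category.assoc, ← hφ₀]
    have : lift v₀ w = w ≫ lift (toUnit W ≫ v₀) (𝟙 W) := by
      rw [comp_lift, Category.comp_id, ← Category.assoc w, toUnit_unique (w ≫ toUnit W) (𝟙 _), Category.id_comp]
    rw [this, Category.assoc, hv, MonObj.comp_one]
  haveI : GeometricallyIntegral (V ⊗ W).hom := AbRigid.geometricallyIntegral_tensorObj V W
  haveI : LocallyOfFiniteType (V ⊗ W).hom := by
    show LocallyOfFiniteType (pullback.fst V.hom W.hom ≫ V.hom)
    infer_instance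
  haveI : IsLocallyNoetherian (V ⊗ W).left := LocallyOfFiniteType.isLocallyNoetherian (V ⊗ W).hom
  haveI : IsIntegral (V ⊗ W).left := GeometricallyIntegral.isIntegral_of_subsingleton (V ⊗ W).hom
  haveI : LocallyOfFiniteType (h.left ≫ A.hom) := by rw [Over.w]; infer_instance
  ext1
  let S : (V ⊗ W).left.Opens := (fst V W).left ⁻¹ᵁ U
  have hS : Dense (S : Set (V ⊗ W).left) := S.isOpen.dense ⟨(lift v₀ w₀).left pt, by
    show (fst V W).left ((lift v₀ w₀).left pt) ∈ U
    rw [← Scheme.Hom.comp_apply, ← Over.comp_left, lift_fst]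
    exact hvU⟩
  refine ext_of_apply_eq A.hom S S.isOpen.isLocallyClosed hS (fun x hxS hx => ?_)
    ((Over.w h).trans (Over.w (1 : V ⊗ W ⟶ A)).symm)
  let p : 𝟙_ (Over (Spec (CommRingCat.of K))) ⟶ V ⊗ W :=
    Over.homMk (pointOfClosedPoint (V ⊗ W).hom x hx) (by simp)
  have hpx : p.left pt = x := pointOfClosedPoint_apply _ _ _ _
  obtain ⟨φ, hφ⟩ := pts (p ≫ fst V W) (by
    rw [Over.comp_left, Scheme.Hom.comp_apply, hpx]; exact hxS)
  have key := eq_of_affine R W A h' φ₀ w₀ hwh o hvh (o ≫ specHom φ) (p ≫ snd V W)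
  rw [← Category.assoc, lift_whiskerRight, Category.assoc, ← hφ, ← comp_lift, lift_fst_snd,
    Category.comp_id] at key
  have e := congrArg (fun q => q.left pt) (key.trans (MonObj.comp_one p).symm)
  simp only [Over.comp_left, Scheme.Hom.comp_apply, hpx] at e
  exact e

end Groth.Agent.RatMapAV
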