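import Groth.Agent.Lib.RatMapAV.Product
import Groth.Agent.Lib.AbRigid.Geometric
import Mathlib.AlgebraicGeometry.Group.Abelian

/-!
# Morphisms from products and groups into abelian varieties over any field
-/

open CategoryTheory Limits AlgebraicGeometry MonoidalCategory CartesianMonoidalCategory MonObj
open scoped CategoryTheory.Obj

set_option linter.style.haveILetI false
set_option backward.isDefEq.respectTransparency false

namespace Groth.Agent.RatMapAV

universe u

variable {K : Type u} [Field K]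

/-- Base change to an algebraic closure. -/
noncomputable abbrev bc (K : Type u) [Field K] :
    Over (Spec (CommRingCat.of K)) ⥤ Over (Spec (CommRingCat.of (AlgebraicClosure K))) :=
  Over.pullback (Spec.map (CommRingCat.ofHom (algebraMap K (AlgebraicClosure K))))

section
variable (X : Over (Spec (CommRingCat.of K)))

instance [IsProper X.hom] : IsProper ((bc K).obj X).hom := inferInstanceAs (IsProper (pullback.snd _ _))
instance [Smooth X.hom] : Smooth ((bc K).obj X).hom := inferInstanceAs (Smooth (pullback.snd _ _))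
instance [IsSeparated X.hom] : IsSeparated ((bc K).obj X).hom := inferInstanceAs (IsSeparated (pullback.snd _ _))
instance [LocallyOfFiniteType X.hom] : LocallyOfFiniteType ((bc K).obj X).hom :=
  inferInstanceAs (LocallyOfFiniteType (pullback.snd _ _))
instance [GeometricallyIntegral X.hom] : GeometricallyIntegral ((bc K).obj X).hom :=
  inferInstanceAs (GeometricallyIntegral (pullback.snd _ _))
end

/-- Nonempty schemes of finite type over an algebraically closed field have rational points. -/
theorem exists_point (W : Over (Spec (CommRingCat.of (AlgebraicClosure K)))) [LocallyOfFiniteType W.hom]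
    [Nonempty W.left] : Nonempty (𝟙_ (Over (Spec (CommRingCat.of (AlgebraicClosure K)))) ⟶ W) := by
  haveI : JacobsonSpace W.left := LocallyOfFiniteType.jacobsonSpace W.hom
  obtain ⟨x, -, hx⟩ := nonempty_inter_closedPoints (Z := (Set.univ : Set W.left)) Set.univ_nonempty
    isOpen_univ.isLocallyClosed
  exact ⟨Over.homMk (pointOfClosedPoint W.hom x hx) (by simp)⟩

set_option synthInstance.maxHeartbeats 400000 in
set_option maxHeartbeats 1000000 in
/-- A pointed morphism from a smooth group variety to an abelian variety is a homomorphism. -/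
theorem isMonHom_of_smooth (G A : Over (Spec (CommRingCat.of K)))
    [GrpObj G] [Smooth G.hom] [IsSeparated G.hom] [GeometricallyIntegral G.hom]
    [GrpObj A] [IsProper A.hom] (f : G ⟶ A) (hf : η[G] ≫ f = η[A]) : IsMonHom f := by
  refine ⟨hf, ?_⟩
  have hμ : μ[G] = fst G G * snd G G := by rw [Hom.mul_def, lift_fst_snd, Category.id_comp]
  suffices hd : ((fst G G * snd G G) ≫ f) * ((fst G G ≫ f) * (snd G G ≫ f))⁻¹ = 1 by
    rw [mul_inv_eq_one] at hd
    rw [hμ, hd, Hom.mul_def]
    congr 1
  apply (bc K).map_injective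
  rw [← cancel_epi (Functor.Monoidal.μIso (bc K) G G).hom]
  simp only [Functor.map_mul, Functor.map_inv', Functor.map_comp, Functor.map_one, comp_mul,
    GrpObj.comp_inv, MonObj.comp_one, ← Category.assoc, Functor.Monoidal.μIso_hom,
    Functor.Monoidal.μ_fst, Functor.Monoidal.μ_snd]
  have hone : η[(bc K).obj G] ≫ (bc K).map f = η[(bc K).obj A] := by
    simp [← Functor.map_comp, hf]
  have hone' : (1 : (bc K).obj G ⟶ (bc K).obj G) ≫ (bc K).map f = 1 := by
    rw [Hom.one_def, Category.assoc, hone, ← Hom.one_def]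
  refine eq_one_of_axes _ _ _ _ η[(bc K).obj G] η[(bc K).obj G] ?_ ?_
  all_goals
    simp only [comp_mul, GrpObj.comp_inv, ← Category.assoc, lift_fst, lift_snd, Functor.map_mul, MonObj.comp_mul]
    simp only [Category.assoc, Category.id_comp, hone, hone', one_eq_one, MonObj.comp_one, _root_.one_mul,
      _root_.mul_one, mul_inv_cancel]

/-- A morphism trivial on one axis factors through the first projection. -/
theorem eq_fst_comp_of_axis {L : Type u} [Field L] [IsAlgClosed L] (V W A : Over (Spec (CommRingCat.of L)))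
    [LocallyOfFiniteType V.hom] [GeometricallyIntegral V.hom] [Smooth W.hom] [IsSeparated W.hom]
    [GeometricallyIntegral W.hom] [GrpObj A] [IsProper A.hom] (h : V ⊗ W ⟶ A)
    (v₀ : 𝟙_ (Over (Spec (CommRingCat.of L))) ⟶ V) (w₀ : 𝟙_ (Over (Spec (CommRingCat.of L))) ⟶ W)
    (hax : lift (toUnit W ≫ v₀) (𝟙 W) ≫ h = 1) : h = fst V W ≫ lift (𝟙 V) (toUnit V ≫ w₀) ≫ h := by
  rw [← mul_inv_eq_one]
  have hc : lift v₀ w₀ ≫ h = 1 := by
    have : lift v₀ w₀ = w₀ ≫ lift (toUnit W ≫ v₀) (𝟙 _) := by
      rw [comp_lift, Category.comp_id, ← Category.assoc w₀, toUnit_unique (w₀ ≫ toUnit _) (𝟙 _), Category.id_comp]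
    rw [this, Category.assoc, hax, MonObj.comp_one]
  refine eq_one_of_axes _ _ _ _ v₀ w₀ ?_ ?_
  · rw [comp_mul, GrpObj.comp_inv, hax, ← Category.assoc _ (fst _ _), lift_fst, Category.assoc,
      ← Category.assoc v₀, comp_lift, Category.comp_id, ← Category.assoc v₀,
      toUnit_unique (v₀ ≫ toUnit _) (𝟙 _), Category.id_comp, hc, MonObj.comp_one, inv_one, _root_.one_mul]
  · rw [comp_mul, GrpObj.comp_inv, ← Category.assoc _ (fst _ _), lift_fst, Category.id_comp, mul_inv_cancel]

set_option synthInstance.maxHeartbeats 400000 in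
set_option maxHeartbeats 1000000 in
/-- A morphism from a product of varieties into an abelian variety splits. -/
theorem exists_eq_mul (V W A : Over (Spec (CommRingCat.of K))) [LocallyOfFiniteType V.hom]
    [GeometricallyIntegral V.hom] [Smooth W.hom] [IsSeparated W.hom] [QuasiCompact W.hom]
    [GeometricallyIntegral W.hom] [GrpObj A] [IsProper A.hom]
    (v₀ : 𝟙_ (Over (Spec (CommRingCat.of K))) ⟶ V) (f : V ⊗ W ⟶ A) :
    ∃ f₁ : V ⟶ A, f = (fst V W ≫ f₁) * (snd V W ≫ lift (toUnit W ≫ v₀) (𝟙 W) ≫ f) := by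
  let f₂ : W ⟶ A := lift (toUnit W ≫ v₀) (𝟙 W) ≫ f
  let d : V ⊗ W ⟶ A := f * (snd V W ≫ f₂)⁻¹
  suffices h : ∃! f₁ : V ⟶ A, d = fst V W ≫ f₁ by
    obtain ⟨f₁, hf₁, -⟩ := h
    exact ⟨f₁, mul_inv_eq_iff_eq_mul.1 hf₁⟩
  haveI : Nonempty W.left := by
    obtain ⟨x⟩ := (inferInstance : Nonempty (Spec (CommRingCat.of K)))
    obtain ⟨y, -⟩ := W.hom.surjective x
    exact ⟨y⟩
  haveI : Surjective (fst V W).left := by
    show Surjective (pullback.fst V.hom W.hom)
    infer_instance
  haveI : Flat (fst V W).left := MorphismProperty.pullback_fst V.hom W.hom inferInstance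
  haveI : QuasiCompact (fst V W).left := MorphismProperty.pullback_fst V.hom W.hom inferInstance
  refine AbRigid.descend_of_flat (fst V W) d fun T a b hab => ?_
  let m := (Functor.Monoidal.μIso (bc K) V W).hom
  obtain ⟨w₀⟩ : Nonempty (𝟙_ (Over (Spec (CommRingCat.of (AlgebraicClosure K)))) ⟶ (bc K).obj W) := by
    haveI : Nonempty ((bc K).obj W).left := by
      obtain ⟨x⟩ := (inferInstance : Nonempty (Spec (CommRingCat.of (AlgebraicClosure K))))
      obtain ⟨y, -⟩ := ((bc K).obj W).hom.surjective x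
      exact ⟨y⟩
    exact exists_point _
  let v₀' : 𝟙_ (Over (Spec (CommRingCat.of (AlgebraicClosure K)))) ⟶ (bc K).obj V :=
    Functor.LaxMonoidal.ε (bc K) ≫ (bc K).map v₀
  let h := m ≫ (bc K).map d
  have hax : lift (toUnit ((bc K).obj W) ≫ v₀') (𝟙 _) ≫ h = 1 := by
    have e : lift (toUnit ((bc K).obj W) ≫ v₀') (𝟙 ((bc K).obj W)) ≫ m =
        (bc K).map (lift (toUnit W ≫ v₀) (𝟙 W)) := by
      rw [← cancel_mono (Functor.Monoidal.μIso (bc K) V W).inv]
      simp only [m, Category.assoc, Iso.hom_inv_id, Category.comp_id]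
      rw [Functor.Monoidal.μIso_inv]
      apply CartesianMonoidalCategory.hom_ext
      · simp only [lift_fst, Category.assoc, Functor.OplaxMonoidal.δ_fst, ← Functor.map_comp, v₀']
        rw [Functor.map_comp, ← Category.assoc]
        congr 1
        rw [← cancel_mono (Functor.Monoidal.εIso (bc K)).inv]
        exact toUnit_unique _ _
      · simp only [lift_snd, Category.assoc, Functor.OplaxMonoidal.δ_snd, ← Functor.map_comp, CategoryTheory.Functor.map_id]
    rw [← Category.assoc, e, ← Functor.map_comp]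
    have : lift (toUnit W ≫ v₀) (𝟙 W) ≫ d = 1 := by
      simp only [d, comp_mul, GrpObj.comp_inv, ← Category.assoc, lift_snd, Category.id_comp, f₂, mul_inv_cancel]
    rw [this, Functor.map_one]
  have hp : h = fst _ _ ≫ lift (𝟙 _) (toUnit _ ≫ w₀) ≫ h :=
    eq_fst_comp_of_axis _ _ _ h v₀' w₀ hax
  have hd : ∀ x : T ⟶ V ⊗ W, (bc K).map (x ≫ d) =
      (bc K).map (x ≫ fst V W) ≫ lift (𝟙 _) (toUnit _ ≫ w₀) ≫ h := by
    intro x
    have e : (bc K).map d = (Functor.Monoidal.μIso (bc K) V W).inv ≫ h := by simp [h, m]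
    rw [Functor.map_comp, e, Functor.map_comp, Category.assoc]
    congr 1
    conv_lhs => rw [hp]
    rw [Functor.Monoidal.μIso_inv, ← Category.assoc, Functor.OplaxMonoidal.δ_fst]
  apply (bc K).map_injective
  rw [hd, hd, hab]

end Groth.Agent.RatMapAV
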