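import Groth.Agent.Lib.VarDim.Alg
import Mathlib.RingTheory.NoetherNormalization
import Mathlib.RingTheory.IntegralClosure.GoingDown
import Mathlib.RingTheory.QuasiFinite.Basic
import Mathlib.RingTheory.Nullstellensatz
import Mathlib.RingTheory.Polynomial.UniqueFactorization

/-!
# Curves joining a point to a fibre of a Noether normalisation
-/

set_option linter.style.haveILetI false

namespace Groth.Agent.RatMapAV

universe u

open Polynomial in
theorem exists_line {k : Type u} [Field k] {n : ℕ} (a b : Fin n → k) (h : a ≠ b) :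
    ∃ φ : MvPolynomial (Fin n) k →ₐ[k] k[X], Function.Surjective φ ∧
      RingHom.ker φ ≤ RingHom.ker (MvPolynomial.aeval a : MvPolynomial (Fin n) k →ₐ[k] k) ∧
      RingHom.ker φ ≤ RingHom.ker (MvPolynomial.aeval b : MvPolynomial (Fin n) k →ₐ[k] k) := by
  obtain ⟨i, hi⟩ := Function.ne_iff.1 h
  let φ : MvPolynomial (Fin n) k →ₐ[k] k[X] := MvPolynomial.aeval fun j => C (a j) + C (b j - a j) * X
  have hev : ∀ (c : k) (p), (φ p).eval c = MvPolynomial.aeval (fun j => a j + (b j - a j) * c) p := by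
    intro c p
    induction p using MvPolynomial.induction_on with
    | C r => simp [φ]
    | add p q hp hq => simp [hp, hq]
    | mul_X p j hp => simp [φ] at hp ⊢; simp [hp]
  refine ⟨φ, ?_, ?_, ?_⟩
  · have hX : X ∈ φ.range := by
      refine ⟨MvPolynomial.C ((b i - a i)⁻¹) * (MvPolynomial.X i - MvPolynomial.C (a i)), ?_⟩
      have h0 : b i - a i ≠ 0 := sub_ne_zero.2 (Ne.symm hi)
      simp [φ, ← mul_assoc]
      rw [← C_sub, ← C_mul, inv_mul_cancel₀ h0, C_1]
    rw [← AlgHom.range_eq_top, eq_top_iff, ← Polynomial.adjoin_X, Algebra.adjoin_le_iff]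
    simpa using hX
  · intro p (hp : φ p = 0)
    show MvPolynomial.aeval a p = 0
    simpa [hp] using (hev 0 p).symm
  · intro p (hp : φ p = 0)
    show MvPolynomial.aeval b p = 0
    simpa [hp] using (hev 1 p).symm

/-- A domain of finite type over an algebraically closed field has, for each maximal ideal, a finite
set of maximal ideals containing it, each connected by curves to every maximal ideal. -/
theorem exists_finite_curve_connected (k A : Type u) [Field k] [IsAlgClosed k] [CommRing A] [IsDomain A]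
    [Algebra k A] [Algebra.FiniteType k A] (m₀ : Ideal A) [m₀.IsMaximal] :
    ∃ F : Set (Ideal A), F.Finite ∧ m₀ ∈ F ∧ (∀ I ∈ F, I.IsMaximal) ∧
      ∀ m : Ideal A, m.IsMaximal → m ∈ F ∨ ∃ P : Ideal A, P.IsPrime ∧ P ≤ m ∧
        (∃ m' ∈ F, P ≤ m') ∧ ringKrullDim (A ⧸ P) = 1 := by
  obtain ⟨n, g, hg, hfin⟩ := exists_finite_inj_algHom_of_fg k A
  let R := MvPolynomial (Fin n) k
  letI : Algebra R A := g.toRingHom.toAlgebra
  haveI : IsScalarTower k R A := IsScalarTower.of_algebraMap_eq fun c => (g.commutes c).symm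
  haveI : Module.Finite R A := hfin
  haveI : FaithfulSMul R A := (faithfulSMul_iff_algebraMap_injective R A).2 hg
  haveI : Algebra.IsIntegral R A := inferInstance
  haveI : Algebra.QuasiFinite R A := inferInstance
  let M₀ := m₀.under R
  haveI hM₀ : M₀.IsMaximal := Ideal.isMaximal_comap_of_isIntegral_of_isMaximal m₀
  refine ⟨M₀.primesOver A, Algebra.QuasiFinite.finite_primesOver M₀, ⟨inferInstance, ⟨rfl⟩⟩, ?_, ?_⟩
  · rintro I ⟨hI, hI'⟩
    exact Ideal.isMaximal_of_isIntegral_of_isMaximal_comap I (hI'.over ▸ hM₀)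
  intro m hm
  let M := m.under R
  haveI hM : M.IsMaximal := Ideal.isMaximal_comap_of_isIntegral_of_isMaximal m
  by_cases hMM : M = M₀
  · exact Or.inl ⟨hm.isPrime, ⟨hMM.symm⟩⟩
  refine Or.inr ?_
  obtain ⟨a, ha⟩ := MvPolynomial.isMaximal_iff_eq_vanishingIdeal_singleton.1 hM
  obtain ⟨b, hb⟩ := MvPolynomial.isMaximal_iff_eq_vanishingIdeal_singleton.1 hM₀
  have hab : a ≠ b := fun h => hMM (by rw [ha, hb, h])
  have hker : ∀ c : Fin n → k, RingHom.ker (MvPolynomial.aeval c : R →ₐ[k] k) = MvPolynomial.vanishingIdeal k {c} := by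
    intro c
    ext p
    simp
  obtain ⟨φ, hφ, hφa, hφb⟩ := exists_line a b hab
  rw [hker, ← ha] at hφa
  rw [hker, ← hb] at hφb
  let q : Ideal R := RingHom.ker φ
  haveI : q.IsPrime := RingHom.ker_isPrime _
  haveI : IsIntegrallyClosed R := inferInstance
  haveI : m.LiesOver M := ⟨rfl⟩
  obtain ⟨P, hPm, hP, hPq⟩ := Ideal.exists_ideal_le_liesOver_of_le (p := q) (q := M) m hφa
  obtain ⟨Q, hQP, hQ, hQM⟩ := Ideal.exists_ideal_over_prime_of_isIntegral (S := A) M₀ P
    (by rw [← Ideal.under_def, ← hPq.over]; exact hφb)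
  refine ⟨P, hP, hPm, ⟨Q, ⟨hQ, ⟨hQM.symm⟩⟩, hQP⟩, ?_⟩
  haveI := hP
  haveI := hPq
  haveI : Algebra.IsIntegral (R ⧸ q) (A ⧸ P) := inferInstance
  rw [VarDim.ringKrullDim_eq_of_isIntegral (R := R ⧸ q) (S := A ⧸ P) (FaithfulSMul.algebraMap_injective _ _),
    ringKrullDim_eq_of_ringEquiv (Ideal.quotientKerAlgEquivOfSurjective hφ).toRingEquiv]
  exact IsPrincipalIdealRing.ringKrullDim_eq_one _ (Polynomial.not_isField k)

end Groth.Agent.RatMapAV
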